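import Mathlib
import Cfsg.Agent.Lib.CoprimeGen.Abelian
import Cfsg.Agent.Lib.Coprime.Basic
import Cfsg.Agent.Lib.Solvable.Nilpotent

/-!
An automorphism of order three of an elementary abelian 2-group moving only a four group, normalizing a
`p`-group of operators for an odd prime `p`: a subgroup of index at most `p` centralizes the four group.
-/

set_option autoImplicit false

namespace Cfsg.Agent.Lib.SmallMover

open Cfsg.Agent.Lib.CoprimeGen

universe u v

variable {M : Type u} [CommGroup M]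

/-- `m ↦ σ m * m`, which is the commutator map in exponent two. -/
def dd (σ : MulAut M) : M →* M where
  toFun m := σ m * m
  map_one' := by simp
  map_mul' a b := by rw [map_mul]; exact mul_mul_mul_comm _ _ _ _

theorem dd_apply (σ : MulAut M) (m : M) : dd σ m = σ m * m := rfl

/-- fixed points of a group of automorphisms -/
abbrev fixA (A : Subgroup (MulAut M)) : Subgroup M := fix (MonoidHom.id (MulAut M)) A

theorem mem_fixA {A : Subgroup (MulAut M)} {m : M} : m ∈ fixA A ↔ ∀ a ∈ A, a m = m := Iff.rfl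

variable (h2 : ∀ m : M, m * m = 1)
include h2

theorem cancel2 {a b c : M} (h : a * b = c) : a = c * b := by
  rw [← h, mul_assoc, h2 b, mul_one]

theorem eq_of_mul {a b : M} (h : a * b = 1) : a = b := by
  simpa using cancel2 h2 h

theorem dd_eq_one {σ : MulAut M} {m : M} : dd σ m = 1 ↔ σ m = m :=
  ⟨fun h => eq_of_mul h2 h, fun h => by rw [dd_apply, h]; exact h2 m⟩

theorem dd_fpf {σ : MulAut M} (hσ : σ ^ 3 = 1) {m : M} (h : dd σ (dd σ m) = 1) : dd σ m = 1 := by
  rw [dd_eq_one h2] at h ⊢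
  rw [dd_apply, map_mul, mul_comm (σ m) m] at h
  have h' : σ (σ m) = m := mul_right_cancel h
  have h3 : σ (σ (σ m)) = m := by
    have := DFunLike.congr_fun hσ m
    simpa [pow_succ] using this
  rwa [h'] at h3

/-- An element of exponent `p` moving `r` by a fixed element fixes it. -/
theorem fix_of_mul {p : ℕ} (hp : Odd p) {a : MulAut M} (ha : a ^ p = 1) {r : M}
    (hc : a (a r * r) = a r * r) : a r = r := by
  have haa : a (a r) = r := by
    rw [map_mul, mul_comm (a r) r] at hc
    exact mul_right_cancel hc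
  obtain ⟨j, rfl⟩ := hp
  have he : ∀ i : ℕ, (a ^ (2 * i)) r = r := by
    intro i
    induction i with
    | zero => simp
    | succ i ih =>
      rw [show 2 * (i + 1) = 2 * i + 1 + 1 by omega, pow_succ, pow_succ, MulAut.mul_apply,
        MulAut.mul_apply, haa, ih]
  have hp' := DFunLike.congr_fun ha r
  rw [pow_succ', MulAut.mul_apply, he] at hp'
  simpa using hp'

omit h2 in
theorem sigma_mem_fixA {σ : MulAut M} (hσ : σ ^ 3 = 1) {K : Subgroup (MulAut M)}
    (hK : ∀ a ∈ K, σ * a * σ⁻¹ ∈ K) {m : M} (hm : m ∈ fixA K) : σ m ∈ fixA K := by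
  intro a ha
  have hb : σ⁻¹ * a * σ ∈ K := by
    have h1 := hK _ (hK a ha)
    have e : σ⁻¹ = σ * σ := by
      rw [inv_eq_iff_mul_eq_one, ← mul_assoc, ← hσ]; simp [pow_succ]
    have e' : σ⁻¹ * σ⁻¹ = σ := by
      rw [← mul_inv_rev, ← e, inv_inv]
    have : σ * (σ * a * σ⁻¹) * σ⁻¹ = σ⁻¹ * a * σ := by
      conv_rhs => rw [e]
      conv_rhs => arg 2; rw [← e']
      simp only [mul_assoc]
    rwa [this] at h1
  have := hm _ hb
  show a (σ m) = σ m
  have e2 : a (σ m) = σ ((σ⁻¹ * a * σ) m) := by simp [MulAut.mul_apply]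
  rw [e2]
  exact congrArg σ this

variable [Finite M]

theorem finset_V {σ : MulAut M} (hσ : σ ^ 3 = 1) (hV : Nat.card ↥(dd σ).range = 4) {v w : M}
    (hv : v ∈ (dd σ).range) (hv1 : v ≠ 1) (hw : w ∈ (dd σ).range) :
    w = 1 ∨ w = v ∨ w = σ v ∨ w = σ (σ v) := by
  classical
  have hσV : ∀ x ∈ (dd σ).range, σ x ∈ (dd σ).range := by
    rintro _ ⟨m, rfl⟩
    exact ⟨σ m, by simp [dd_apply]⟩
  have hfix : ∀ x ∈ (dd σ).range, σ x = x → x = 1 := by
    rintro _ ⟨m, rfl⟩ hx
    exact dd_fpf h2 hσ ((dd_eq_one h2).2 hx)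
  have h3 : σ (σ (σ v)) = v := by
    have := DFunLike.congr_fun hσ v
    simpa [pow_succ] using this
  have a1 : σ v ≠ v := fun h => hv1 (hfix v hv h)
  have a2 : σ (σ v) ≠ v := fun h => a1 (by rw [h] at h3; exact h3)
  have a3 : σ (σ v) ≠ σ v := fun h => a1 (σ.injective h)
  by_contra h
  simp only [not_or] at h
  obtain ⟨b1, b2, b3, b4⟩ := h
  have c1 : σ v ≠ 1 := fun h => hv1 (by simpa using h)
  have c2 : σ (σ v) ≠ 1 := fun h => c1 (by simpa using h)
  have hsub : ({1, v, σ v, σ (σ v), w} : Finset M) ⊆ ((dd σ).range : Set M).toFinite.toFinset := by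
    intro x hx
    simp only [Finset.mem_insert, Finset.mem_singleton] at hx
    rw [Set.Finite.mem_toFinset]
    rcases hx with rfl | rfl | rfl | rfl | rfl
    exacts [one_mem _, hv, hσV _ hv, hσV _ (hσV _ hv), hw]
  have := Finset.card_le_card hsub
  rw [← Nat.card_eq_card_finite_toFinset, SetLike.coe_sort_coe, hV] at this
  rw [Finset.card_insert_of_notMem, Finset.card_insert_of_notMem, Finset.card_insert_of_notMem,
    Finset.card_insert_of_notMem, Finset.card_singleton] at this
  · omega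
  all_goals simp only [Finset.mem_insert, Finset.mem_singleton, not_or]
  · exact Ne.symm b4
  · exact ⟨Ne.symm a3, Ne.symm b3⟩
  · exact ⟨Ne.symm a1, Ne.symm a2, Ne.symm b2⟩
  · exact ⟨Ne.symm hv1, Ne.symm c1, Ne.symm c2, Ne.symm b1⟩

/-- An invariant subgroup not centralized by `σ` contains the whole moved four group. -/
theorem range_le {σ : MulAut M} (hσ : σ ^ 3 = 1) (hV : Nat.card ↥(dd σ).range = 4) {W : Subgroup M}
    (hW : ∀ m ∈ W, σ m ∈ W) {m : M} (hm : m ∈ W) (hm1 : dd σ m ≠ 1) : (dd σ).range ≤ W := by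
  have hd : dd σ m ∈ W := mul_mem (hW m hm) hm
  intro w hw
  rcases finset_V h2 hσ hV ⟨m, rfl⟩ hm1 hw with rfl | rfl | rfl | rfl
  exacts [one_mem _, hd, hW _ hd, hW _ (hW _ hd)]

/-- The abelian case. -/
theorem exists_hyperplane {p : ℕ} [hp : Fact p.Prime] (hp2 : p ≠ 2) {σ : MulAut M} (hσ : σ ^ 3 = 1)
    (hV : Nat.card ↥(dd σ).range = 4) {A : Subgroup (MulAut M)}
    (hAc : ∀ a ∈ A, ∀ b ∈ A, a * b = b * a) (hAp : ∀ a ∈ A, a ^ p = 1)
    (hσA : ∀ a ∈ A, σ * a * σ⁻¹ ∈ A) (hfix : ∀ m ∈ fixA A, dd σ m = 1) :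
    ∃ H ≤ A, H.relIndex A = p ∧ (∀ a ∈ H, σ * a * σ⁻¹ ∈ H) ∧ (dd σ).range ≤ fixA H := by
  classical
  have hodd : Odd p := hp.out.odd_of_ne_two hp2
  haveI : Finite (MulAut M) := Finite.of_injective (fun f : MulAut M => (f : M → M)) DFunLike.coe_injective
  letI : CommGroup ↥A :=
    { (inferInstance : Group ↥A) with mul_comm := fun a b => Subtype.ext (hAc a a.2 b b.2) }
  have hApg : IsPGroup p ↥A := fun a => ⟨1, Subtype.ext (by simpa using hAp a a.2)⟩
  have hMpg : IsPGroup 2 M := fun m => ⟨1, by rw [pow_one, pow_two]; exact h2 m⟩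
  have hcop : (Nat.card ↥A).Coprime (Nat.card M) := by
    obtain ⟨i, hi⟩ := IsPGroup.iff_card.mp hApg
    obtain ⟨j, hj⟩ := IsPGroup.iff_card.mp hMpg
    rw [hi, hj]
    exact Nat.Coprime.pow _ _ ((Nat.coprime_primes hp.out Nat.prime_two).2 hp2)
  have htop := iSup_fix_eq_top (Nat.card ↥A) ↥A M A.subtype rfl hcop
  obtain ⟨B, ⟨a0, ha0⟩, w, hwB, hw⟩ : ∃ B : Subgroup ↥A, (∃ a, B ⊔ Subgroup.zpowers a = ⊤) ∧
      ∃ w ∈ fix A.subtype B, dd σ w ≠ 1 := by
    by_contra hcon
    push Not at hcon
    have hle : (⊤ : Subgroup M) ≤ (dd σ).ker := by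
      rw [← htop]
      exact iSup₂_le fun B hB m hm => hcon B hB m hm
    have : (dd σ).range = ⊥ := by
      rw [eq_bot_iff]
      rintro _ ⟨m, rfl⟩
      exact hle (Subgroup.mem_top m)
    rw [this, Subgroup.card_bot] at hV
    omega
  set H : Subgroup (MulAut M) := B.map A.subtype with hH
  have hHA : H ≤ A := Subgroup.map_subtype_le B
  have hwH : w ∈ fixA H := by
    rintro _ ⟨b, hb, rfl⟩
    exact hwB b hb
  have hidx : H.relIndex A = p := by
    have hBH : H.subgroupOf A = B := by
      rw [hH, Subgroup.subgroupOf, Subgroup.comap_map_eq_self_of_injective A.subtype_injective]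
    rw [Subgroup.relIndex, hBH]
    have hdvd : B.index ∣ p := by
      have e : B.relIndex (B ⊔ Subgroup.zpowers a0) = B.index := by
        rw [ha0, Subgroup.relIndex_top_right]
      rw [← e, sup_comm, Subgroup.relIndex_sup_right]
      refine (Subgroup.relIndex_dvd_card _ _).trans ?_
      rw [Nat.card_zpowers]
      exact orderOf_dvd_of_pow_eq_one (Subtype.ext (by simpa using hAp a0 a0.2))
    rcases (Nat.dvd_prime hp.out).mp hdvd with h | h
    · refine absurd (hfix w ?_) hw
      rw [Subgroup.index_eq_one] at h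
      intro a ha
      exact hwB ⟨a, ha⟩ (h ▸ Subgroup.mem_top _)
    · exact h
  have hconjA : A.map (MulAut.conj σ).toMonoidHom = A := by
    refine Subgroup.eq_of_le_of_card_ge ?_ (le_of_eq ?_)
    · rintro _ ⟨a, ha, rfl⟩; exact hσA a ha
    · exact (Subgroup.card_map_of_injective (MulAut.conj σ).injective).symm
  set H' := H.map (MulAut.conj σ).toMonoidHom with hH'
  have hH'A : H' ≤ A := (Subgroup.map_mono hHA).trans hconjA.le
  by_cases heq : H' = H
  · have hinv : ∀ a ∈ H, σ * a * σ⁻¹ ∈ H := fun a ha => heq ▸ ⟨a, ha, rfl⟩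
    exact ⟨H, hHA, hidx, hinv, range_le h2 hσ hV (fun m hm => sigma_mem_fixA hσ hinv hm) hwH hw⟩
  exfalso
  set H'' := H'.map (MulAut.conj σ).toMonoidHom with hH''
  have hH''A : H'' ≤ A := (Subgroup.map_mono hH'A).trans hconjA.le
  have h3 : H''.map (MulAut.conj σ).toMonoidHom = H := by
    rw [hH'', hH', Subgroup.map_map, Subgroup.map_map]
    convert Subgroup.map_id H using 2
    ext a : 1
    have e : MulAut.conj σ * MulAut.conj σ * MulAut.conj σ = 1 := by
      rw [← map_mul, ← map_mul, show σ * σ * σ = 1 from by rw [← hσ, pow_succ, pow_succ, pow_one], map_one]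
    exact DFunLike.congr_fun e a
  have hne2 : H'' ≠ H := fun h => heq (by rw [h, ← hH'] at h3; exact h3)
  -- common fixed points of two different hyperplanes
  have hcard : ∀ K : Subgroup (MulAut M), Nat.card ↥(K.map (MulAut.conj σ).toMonoidHom) = Nat.card ↥K :=
    fun K => Subgroup.card_map_of_injective (MulAut.conj σ).injective
  have hjoin : ∀ L K : Subgroup (MulAut M), L ≤ A → K ≤ A → Nat.card ↥L = Nat.card ↥H →
      Nat.card ↥K = Nat.card ↥H → K ≠ L →
      ∀ r, r ∈ fixA L → r ∈ fixA K → r ∈ fixA A := by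
    intro L K hLA hKA hLc hKc hKL r hrL hrK
    have hLidx : L.relIndex A = p := by
      have e1 := Cfsg.Agent.Lib.Coprime.relIndex_mul_card hLA
      have e2 := Cfsg.Agent.Lib.Coprime.relIndex_mul_card hHA
      rw [hLc, ← e2, hidx] at e1
      exact Nat.eq_of_mul_eq_mul_left Nat.card_pos e1
    have hlt : L ⊔ K = A := by
      have h1 := Subgroup.relIndex_mul_relIndex L (L ⊔ K) A le_sup_left (sup_le hLA hKA)
      rw [hLidx] at h1
      rcases (Nat.dvd_prime hp.out).mp (Dvd.intro_left _ h1 : (L ⊔ K).relIndex A ∣ p) with h | h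
      · exact le_antisymm (sup_le hLA hKA) (Subgroup.relIndex_eq_one.mp h)
      · rw [h] at h1
        have : L.relIndex (L ⊔ K) = 1 := Nat.eq_of_mul_eq_mul_right hp.out.pos (h1.trans (one_mul p).symm)
        have hle : K ≤ L := le_sup_right.trans (Subgroup.relIndex_eq_one.mp this)
        exact absurd (Subgroup.eq_of_le_of_card_ge hle (hLc.trans hKc.symm).le) hKL
    intro a ha
    rw [← hlt] at ha
    have : L ⊔ K ≤ (MulAction.stabilizer (MulAut M) r) := sup_le (fun a ha => hrL a ha) (fun a ha => hrK a ha)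
    exact this ha
  have hfixmap : ∀ K : Subgroup (MulAut M), ∀ m ∈ fixA K, σ m ∈ fixA (K.map (MulAut.conj σ).toMonoidHom) := by
    rintro K m hm _ ⟨a, ha, rfl⟩
    show (σ * a * σ⁻¹) (σ m) = σ m
    simp only [MulAut.mul_apply, MulAut.inv_apply_self]
    exact congrArg σ (hm a ha)
  have hfA : ∀ m, σ m ∈ fixA A → m ∈ fixA A := by
    intro m hm
    have h4 := sigma_mem_fixA hσ hσA (sigma_mem_fixA hσ hσA hm)
    have := DFunLike.congr_fun hσ m
    simp [pow_succ] at this
    rwa [this] at h4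
  have hnot : w ∉ fixA A := fun h => hw (hfix w h)
  -- the four group is the image of the fixed points of `H`
  have hsurj : ∀ u ∈ (dd σ).range, ∃ t ∈ fixA H, dd σ t = u := by
    by_contra hcon
    push Not at hcon
    obtain ⟨u, hu, hut⟩ := hcon
    have hpair : ∀ t ∈ fixA H, ∀ t' ∈ fixA H, dd σ t ≠ 1 → dd σ t' ≠ 1 → dd σ t = dd σ t' := by
      intro t ht t' ht' h1 h1'
      have hu1 : u ≠ 1 := fun e => hut 1 (one_mem _) (by rw [map_one, e])
      have q := finset_V h2 hσ hV ⟨t, rfl⟩ h1 ⟨t', rfl⟩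
      have qu := finset_V h2 hσ hV ⟨t, rfl⟩ h1 hu
      have qm : dd σ (t * t') = dd σ t * dd σ t' := map_mul _ _ _
      have qq := finset_V h2 hσ hV ⟨t, rfl⟩ h1 ⟨t * t', rfl⟩
      by_contra hne
      rcases q with e | e | e | e
      · exact h1' e
      · exact hne e.symm
      all_goals
        rcases qu with f | f | f | f
        · exact hu1 f
        · exact hut t ht f.symm
        all_goals first
          | exact hut t' ht' (e.trans f.symm)
          | skip
        all_goals
          rcases qq with g | g | g | g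
          · exact hne (eq_of_mul h2 (qm ▸ g))
          · exact h1' (by rw [qm] at g; exact mul_eq_left.mp g)
          all_goals first
            | exact hut (t * t') (mul_mem ht ht') (g.trans f.symm)
            | (rw [qm, e] at g; exact h1 (mul_eq_right.mp g))
    refine hnot fun a ha => ?_
    have hawH : a w ∈ fixA H := by
      intro b hb
      show b (a w) = a w
      rw [← MulAut.mul_apply, hAc b (hHA hb) a ha, MulAut.mul_apply]
      exact congrArg a (hwH b hb)
    have h1 : dd σ (a w) ≠ 1 := by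
      intro h
      have e := (dd_eq_one h2).1 h
      have hmem := hfixmap H _ hawH
      rw [e, ← hH'] at hmem
      have hA' := hjoin H H' hHA hH'A rfl (hcard H) heq _ hawH hmem
      have : (a⁻¹) (a w) = a w := hA' a⁻¹ (inv_mem ha)
      rw [MulAut.inv_apply_self] at this
      exact hw (this ▸ hfix _ hA')
    have h4 : dd σ (a w * w) = 1 := by
      rw [map_mul, hpair _ hawH w hwH h1 hw, h2]
    have e := (dd_eq_one h2).1 h4
    have hmem := hfixmap H _ (mul_mem hawH hwH)
    rw [e, ← hH'] at hmem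
    have hA' := hjoin H H' hHA hH'A rfl (hcard H) heq _ (mul_mem hawH hwH) hmem
    exact fix_of_mul h2 hodd (hAp a ha) (hA' a ha)
  obtain ⟨t, ht, htu⟩ := hsurj (σ (dd σ w)) ⟨σ w, by simp [dd_apply]⟩
  simp only [dd_apply, map_mul] at htu
  set z := σ (σ w) with hz
  set s := σ (t * w) with hs
  have hzeq : z = t * s := by
    have := cancel2 h2 htu.symm
    rw [this, hs, map_mul]
    ac_rfl
  have hzH : z ∈ fixA H'' := hfixmap H' _ (hfixmap H _ hwH)
  have hsH : s ∈ fixA H' := hfixmap H _ (mul_mem ht hwH)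
  have htA : t ∈ fixA A ∧ s ∈ fixA A := by
    have key : ∀ a ∈ H'', a t = t ∧ a s = s := by
      intro a ha
      have haA := hH''A ha
      have hc : a t * t = a s * s := by
        have h5 := hzH a ha
        rw [hzeq] at h5
        simp only [MonoidHom.id_apply] at h5
        rw [map_mul] at h5
        have h6 := cancel2 h2 h5
        rw [h6]
        calc t * s * a s * t = (t * t) * (a s * s) := by ac_rfl
          _ = a s * s := by rw [h2, one_mul]
      have hin : ∀ {K : Subgroup (MulAut M)}, K ≤ A → ∀ {x : M}, x ∈ fixA K → a x ∈ fixA K := by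
        intro K hK x hx b hb
        show b (a x) = a x
        rw [← MulAut.mul_apply, hAc b (hK hb) a haA, MulAut.mul_apply]
        exact congrArg a (hx b hb)
      have hA' : a t * t ∈ fixA A :=
        hjoin H H' hHA hH'A rfl (hcard H) heq _ (mul_mem (hin hHA ht) ht)
          (hc ▸ mul_mem (hin hH'A hsH) hsH)
      exact ⟨fix_of_mul h2 hodd (hAp a haA) (hA' a haA),
        fix_of_mul h2 hodd (hAp a haA) (hc ▸ hA' a haA)⟩
    refine ⟨hjoin H H'' hHA hH''A rfl ((hcard H').trans (hcard H)) hne2 t ht fun a ha => (key a ha).1,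
      hjoin H' H'' hH'A hH''A (hcard H) ((hcard H').trans (hcard H)) (fun h => hne2 ?_) s hsH
        fun a ha => (key a ha).2⟩
    have h9 := h3
    rw [h, ← hH'', h] at h9
    exact h.trans h9
  have hzA : z ∈ fixA A := hzeq ▸ mul_mem htA.1 htA.2
  exact hnot (hfA w (hfA _ hzA))

end Cfsg.Agent.Lib.SmallMover
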