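import Cfsg.Agent.Lib.SmallMover.Basic

/-!
Induction: a `p`-group of operators (`p` an odd prime other than three) has a subgroup of index at most `p`
centralizing the four group moved by `σ`.
-/

set_option autoImplicit false

namespace Cfsg.Agent.Lib.SmallMover

open Cfsg.Agent.Lib.CoprimeGen

universe u v

theorem nat_odd_cube {p i : ℕ} (hp : p.Prime) (hp3 : p ≠ 3) (h : 3 ∣ i * p) : 3 ∣ i := by
  rcases Nat.prime_three.dvd_mul.mp h with h | h
  · exact h
  · exact absurd ((Nat.prime_dvd_prime_iff_eq Nat.prime_three hp).mp h).symm hp3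

variable {M : Type u} [CommGroup M]

omit [CommGroup M] in
/-- The restriction of a bijective self-map to an invariant subgroup. -/
theorem restrict_bijective {N : Type u} [Group N] [Finite N] (W : Subgroup N) (f : MulAut N)
    (hf : ∀ m ∈ W, f m ∈ W) :
    Function.Bijective (fun m : ↥W => (⟨f m, hf m m.2⟩ : ↥W)) :=
  Finite.injective_iff_bijective.mp fun a b h =>
    Subtype.ext (f.injective (congrArg Subtype.val h))

/-- The restriction of a family of invariant automorphisms. -/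
noncomputable def restrict [Finite M] (W : Subgroup M) (f : MulAut M) (hf : ∀ m ∈ W, f m ∈ W) : MulAut ↥W :=
  MulEquiv.ofBijective ({ toFun := fun m => ⟨f m, hf m m.2⟩
                          map_one' := Subtype.ext (map_one f)
                          map_mul' := fun a b => Subtype.ext (map_mul f (a : M) b) } : ↥W →* ↥W)
    (restrict_bijective W f hf)

theorem restrict_coe [Finite M] (W : Subgroup M) (f : MulAut M) (hf : ∀ m ∈ W, f m ∈ W) (m : ↥W) :
    ((restrict W f hf m : ↥W) : M) = f m := rfl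

variable (h2 : ∀ m : M, m * m = 1)
include h2

theorem moved_subset [Finite M] {σ z : MulAut M} {m : M} :
    ∃ v ∈ (dd σ).range, ∃ w ∈ (dd σ).range, (σ * z * σ⁻¹ * z⁻¹) m * m = v * z w := by
  set n := z⁻¹ m with hn
  have hm : m = z n := by simp [hn]
  set v := σ⁻¹ n * n with hv
  have hvr : v ∈ (dd σ).range := ⟨σ⁻¹ n, by simp [dd_apply, hv, mul_comm]⟩
  have e : σ⁻¹ n = v * n := cancel2 h2 rfl
  refine ⟨(σ (z v) * z v) * (σ m * m), mul_mem ⟨z v, rfl⟩ ⟨m, rfl⟩, v, hvr, ?_⟩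
  have h1 : (σ * z * σ⁻¹ * z⁻¹) m = σ (z (σ⁻¹ n)) := rfl
  rw [h1, e, map_mul, ← hm, map_mul]
  calc σ (z v) * σ m * m = σ (z v) * σ m * m * (z v * z v) := by rw [h2, mul_one]
    _ = _ := by ac_rfl

omit h2 in
theorem exists_fix : ∀ (n : ℕ) (M : Type u) [CommGroup M] [Finite M], Nat.card M = n →
    (∀ m : M, m * m = 1) → ∀ (σ : MulAut M), σ ^ 3 = 1 → Nat.card ↥(dd σ).range = 4 →
    ∀ (P : Type v) [Group P] [Finite P] (p : ℕ) [Fact p.Prime], p ≠ 2 → p ≠ 3 → IsPGroup p P →
    ∀ ρ : P →* MulAut M, (∀ g : P, ∃ g' : P, σ * ρ g * σ⁻¹ = ρ g') →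
    ∃ B : Subgroup P, B.index ≤ p ∧ ∀ g ∈ B, ∀ m : M, ρ g (dd σ m) = dd σ m := by
  intro n
  induction n using Nat.strong_induction_on with
  | _ n ih =>
  intro M _ _ hn h2 σ hσ hV P _ _ p hp hp2 hp3 hP ρ hnorm
  classical
  have hodd : Odd p := hp.out.odd_of_ne_two hp2
  haveI : Finite (MulAut M) := Finite.of_injective (fun f : MulAut M => (f : M → M)) DFunLike.coe_injective
  -- passing to a smaller invariant subgroup
  have step : ∀ W : Subgroup M, W ≠ ⊤ → (∀ m ∈ W, σ m ∈ W) → (∀ (g : P), ∀ m ∈ W, ρ g m ∈ W) →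
      (dd σ).range ≤ W → ∃ B : Subgroup P, B.index ≤ p ∧ ∀ g ∈ B, ∀ m : M, ρ g (dd σ m) = dd σ m := by
    intro W hW hσW hρW hVW
    let σ' : MulAut ↥W := restrict W σ hσW
    let ρ' : P →* MulAut ↥W :=
      { toFun := fun g => restrict W (ρ g) (hρW g)
        map_one' := MulEquiv.ext fun m => Subtype.ext (by rw [restrict_coe, map_one]; rfl)
        map_mul' := fun a b => MulEquiv.ext fun m => Subtype.ext (by
          rw [MulAut.mul_apply, restrict_coe, restrict_coe, restrict_coe, map_mul, MulAut.mul_apply]) }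
    have h2' : ∀ m : ↥W, m * m = 1 := fun m => Subtype.ext (h2 m)
    have hσ' : σ' ^ 3 = 1 := MulEquiv.ext fun m => Subtype.ext (by
      have := DFunLike.congr_fun hσ (m : M)
      simpa [σ', pow_succ, restrict_coe] using this)
    have hdd : ∀ m : ↥W, ((dd σ' m : ↥W) : M) = dd σ m := fun m => rfl
    have himg : ∀ v ∈ (dd σ).range, ∃ t : ↥W, dd σ t = v := by
      let f : ↥(dd σ).range → ↥(dd σ).range := fun v => ⟨dd σ v, v, rfl⟩
      have hf : Function.Injective f := by
        rintro ⟨_, a, rfl⟩ ⟨_, b, rfl⟩ h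
        have h' : dd σ (dd σ a) = dd σ (dd σ b) := congrArg Subtype.val h
        have h1 : dd σ (dd σ (a * b)) = 1 := by rw [map_mul, map_mul, h']; exact h2 _
        have h3 := dd_fpf h2 hσ h1
        rw [map_mul] at h3
        exact Subtype.ext (eq_of_mul h2 h3)
      intro v hv
      obtain ⟨x, hx⟩ := (Finite.injective_iff_surjective.mp hf) ⟨v, hv⟩
      exact ⟨⟨x, hVW x.2⟩, congrArg Subtype.val hx⟩
    have hV' : Nat.card ↥(dd σ').range = 4 := by
      have e : (dd σ').range.map W.subtype = (dd σ).range := by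
        ext v
        constructor
        · rintro ⟨_, ⟨t, rfl⟩, rfl⟩; exact ⟨t, rfl⟩
        · intro hv
          obtain ⟨t, ht⟩ := himg v hv
          exact ⟨dd σ' t, ⟨t, rfl⟩, ht⟩
      rw [← hV, ← e, Subgroup.card_map_of_injective W.subtype_injective]
    have hlt : Nat.card ↥W < n := by
      rw [← hn]
      exact lt_of_not_ge fun h => hW (Subgroup.eq_top_of_card_eq W (le_antisymm (Subgroup.card_le_card_group W) h))
    obtain ⟨B, hB, hBfix⟩ := ih _ hlt ↥W rfl h2' σ' hσ' hV' P p hp2 hp3 hP ρ' fun g => by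
      obtain ⟨g', hg'⟩ := hnorm g
      refine ⟨g', ?_⟩
      have e : σ * ρ g = ρ g' * σ := by rw [← hg', inv_mul_cancel_right]
      rw [mul_inv_eq_iff_eq_mul]
      refine MulEquiv.ext fun m => Subtype.ext ?_
      exact DFunLike.congr_fun e (m : M)
    refine ⟨B, hB, fun g hg m => ?_⟩
    obtain ⟨t, ht⟩ := himg _ ⟨m, rfl⟩
    rw [← ht]
    exact congrArg Subtype.val (hBfix g hg t)
  have hQ : IsPGroup p ↥ρ.range := hP.of_surjective ρ.rangeRestrict ρ.rangeRestrict_surjective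
  haveI : Group.IsNilpotent ↥ρ.range := hQ.isNilpotent
  by_cases hQ1 : ρ.range = ⊥
  · exact ⟨⊤, by simpa using hp.out.one_lt.le, fun g _ m => by
      rw [show ρ g = 1 from Subgroup.mem_bot.mp (hQ1 ▸ ⟨g, rfl⟩)]; rfl⟩
  -- the elements of order `p` of the centre
  let A : Subgroup (MulAut M) :=
    { carrier := {a | a ∈ ρ.range ∧ a ^ p = 1 ∧ ∀ g ∈ ρ.range, a * g = g * a}
      one_mem' := ⟨one_mem _, one_pow p, fun g _ => by rw [one_mul, mul_one]⟩
      mul_mem' := fun {a b} ha hb => ⟨mul_mem ha.1 hb.1,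
        by rw [(show Commute a b from ha.2.2 b hb.1).mul_pow, ha.2.1, hb.2.1, one_mul],
        fun g hg => by rw [mul_assoc, hb.2.2 g hg, ← mul_assoc, ha.2.2 g hg, mul_assoc]⟩
      inv_mem' := fun {a} ha => ⟨inv_mem ha.1, by rw [inv_pow, ha.2.1, inv_one],
        fun g hg => ((show Commute a g from ha.2.2 g hg).inv_left)⟩ }
  have hAle : A ≤ ρ.range := fun a ha => ha.1
  have hAc : ∀ a ∈ A, ∀ b ∈ A, a * b = b * a := fun a ha b hb => ha.2.2 b hb.1
  have hAp : ∀ a ∈ A, a ^ p = 1 := fun a ha => ha.2.1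
  have hnorm2 : ∀ g ∈ ρ.range, σ⁻¹ * g * σ ∈ ρ.range := by
    rintro _ ⟨g, rfl⟩
    obtain ⟨g1, h1⟩ := hnorm g
    obtain ⟨g2, h2'⟩ := hnorm g1
    refine ⟨g2, ?_⟩
    have e : σ⁻¹ = σ * σ := by rw [inv_eq_iff_mul_eq_one, ← mul_assoc, ← hσ]; simp [pow_succ]
    have e' : σ⁻¹ * σ⁻¹ = σ := by rw [← mul_inv_rev, ← e, inv_inv]
    rw [← h2', ← h1]
    conv_rhs => rw [e]
    conv_rhs => arg 2; rw [← e']
    simp only [mul_assoc]
  have hσA : ∀ a ∈ A, σ * a * σ⁻¹ ∈ A := by
    intro a ha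
    obtain ⟨g, hg⟩ := ha.1
    obtain ⟨g', hg'⟩ := hnorm g
    refine ⟨⟨g', by rw [← hg', hg]⟩, ?_, fun h hh => ?_⟩
    · rw [conj_pow, ha.2.1, mul_one, mul_inv_cancel]
    · have := ha.2.2 _ (hnorm2 h hh)
      calc σ * a * σ⁻¹ * h = σ * (a * (σ⁻¹ * h * σ)) * σ⁻¹ := by group
        _ = σ * (σ⁻¹ * h * σ * a) * σ⁻¹ := by rw [this]
        _ = h * (σ * a * σ⁻¹) := by group
  have hA1 : A ≠ ⊥ := by
    haveI : Nontrivial ↥ρ.range := (Subgroup.nontrivial_iff_ne_bot _).mpr hQ1
    obtain ⟨⟨z, hz⟩, hz1⟩ := Subgroup.ne_bot_iff_exists_ne_one.mp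
      ((Subgroup.nontrivial_iff_ne_bot _).mp hQ.center_nontrivial)
    obtain ⟨k, hk⟩ := (hQ.to_subgroup (Subgroup.center _)).exists_card_eq
    have hd : p ∣ Nat.card ↥(Subgroup.center ↥ρ.range) := by
      rcases k with _ | k
      · rw [pow_zero] at hk
        exact absurd (Subgroup.card_eq_one.mp hk ▸ hz : z ∈ (⊥ : Subgroup ↥ρ.range))
          (fun h => hz1 (Subtype.ext (Subgroup.mem_bot.mp h)))
      · rw [hk]; exact dvd_pow_self p (by omega)
    obtain ⟨a, ha⟩ := exists_prime_orderOf_dvd_card' p hd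
    intro hb
    have hmem : ((a : ↥ρ.range) : MulAut M) ∈ A := by
      refine ⟨(a : ↥ρ.range).2, ?_, fun g hg =>
        congrArg Subtype.val (Subgroup.mem_center_iff.mp a.2 ⟨g, hg⟩).symm⟩
      rw [← SubgroupClass.coe_pow, ← SubgroupClass.coe_pow, ← ha, pow_orderOf_eq_one]
      rfl
    rw [hb, Subgroup.mem_bot] at hmem
    have : a = 1 := Subtype.ext (Subtype.ext hmem)
    rw [this, orderOf_one] at ha
    exact hp.out.one_lt.ne ha
  -- subgroups centralized by a central subgroup are invariant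
  have hinvP : ∀ K : Subgroup (MulAut M), K ≤ A → ∀ (g : P), ∀ m ∈ fixA K, ρ g m ∈ fixA K := by
    intro K hK g m hm a ha
    show a (ρ g m) = ρ g m
    rw [← MulAut.mul_apply, (hK ha).2.2 (ρ g) ⟨g, rfl⟩, MulAut.mul_apply]
    exact congrArg (ρ g) (hm a ha)
  have hproper : ∀ K : Subgroup (MulAut M), K ≠ ⊥ → fixA K ≠ ⊤ := by
    intro K hK htop
    refine hK (eq_bot_iff.mpr fun a ha => Subgroup.mem_bot.mpr (MulEquiv.ext fun m => ?_))
    exact (htop ▸ Subgroup.mem_top m : m ∈ fixA K) a ha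
  by_cases hfix : ∀ m ∈ fixA A, dd σ m = 1
  swap
  · push Not at hfix
    obtain ⟨m, hm, hm1⟩ := hfix
    exact step _ (hproper A hA1) (fun x hx => sigma_mem_fixA hσ hσA hx) (hinvP A le_rfl)
      (range_le h2 hσ hV (fun x hx => sigma_mem_fixA hσ hσA hx) hm hm1)
  obtain ⟨H, hHA, hHidx, hσH, hHfix⟩ := exists_hyperplane h2 hp2 hσ hV hAc hAp hσA hfix
  by_cases hH : H = ⊥
  swap
  · exact step _ (hproper H hH) (fun x hx => sigma_mem_fixA hσ hσH hx) (hinvP H hHA) hHfix
  rw [hH, Subgroup.relIndex_bot_left] at hHidx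
  have hgen : ∀ a ∈ A, a ≠ 1 → A = Subgroup.zpowers a := fun a ha ha1 => by
    refine (Subgroup.eq_of_le_of_card_ge ((Subgroup.zpowers_le).mpr ha) ?_).symm
    rw [hHidx, Nat.card_zpowers, orderOf_eq_prime (hAp a ha) ha1]
  obtain ⟨⟨z, hz⟩, hz1⟩ := Subgroup.ne_bot_iff_exists_ne_one.mp hA1
  have hz1' : z ≠ 1 := fun h => hz1 (Subtype.ext h)
  set c := σ * z * σ⁻¹ * z⁻¹ with hc
  have hcA : c ∈ A := mul_mem (hσA z hz) (inv_mem hz)
  have hc1 : c ≠ 1 := by
    intro h
    have hcom : σ * z = z * σ := by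
      have e := mul_inv_eq_one.mp h
      rw [mul_inv_eq_iff_eq_mul] at e
      exact e
    have hzd : ∀ m, z (dd σ m) = dd σ (z m) := fun m => by
      rw [dd_apply, dd_apply, map_mul]
      congr 1
      exact (DFunLike.congr_fun hcom m).symm
    have hne : (dd σ).range ≠ ⊥ := fun e => by rw [e, Subgroup.card_bot] at hV; omega
    obtain ⟨⟨v, hv⟩, hv1⟩ := Subgroup.ne_bot_iff_exists_ne_one.mp hne
    have hv1' : v ≠ 1 := fun e => hv1 (Subtype.ext e)
    obtain ⟨i, hi3, hzv⟩ : ∃ i, i < 3 ∧ z v = (σ ^ i) v := by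
      have hzvr : z v ∈ (dd σ).range := by
        obtain ⟨m, rfl⟩ := hv
        exact ⟨z m, (hzd m).symm⟩
      rcases finset_V h2 hσ hV hv hv1' hzvr with e | e | e | e
      · exact absurd ((map_eq_one_iff z z.injective).mp e) hv1'
      · exact ⟨0, by omega, by simpa using e⟩
      · exact ⟨1, by omega, by simpa using e⟩
      · exact ⟨2, by omega, by simpa [pow_succ] using e⟩
    have hcomm : Commute σ z := hcom
    have hpow : ∀ j : ℕ, (z ^ j) v = (σ ^ (i * j)) v := by
      intro j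
      induction j with
      | zero => simp
      | succ j ih =>
        rw [pow_succ', MulAut.mul_apply, ih, ← MulAut.mul_apply, ← (hcomm.pow_left (i * j)).eq,
          MulAut.mul_apply, hzv, ← MulAut.mul_apply, ← pow_add, mul_add, mul_one]
    have hp' := hpow p
    rw [hAp z hz, MulAut.one_apply] at hp'
    have hi0 : i = 0 := by
      by_contra hi0
      have hnd : ¬ 3 ∣ i * p := fun hd => by
        have := nat_odd_cube hp.out hp3 hd
        omega
      have hmod : (σ ^ (i * p % 3)) v = v := by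
        rw [← pow_eq_pow_mod _ hσ]; exact hp'.symm
      have hfixσ : σ v = v := by
        rcases (show i * p % 3 = 1 ∨ i * p % 3 = 2 by omega) with e | e <;> rw [e] at hmod
        · simpa using hmod
        · simp [pow_succ] at hmod
          have := DFunLike.congr_fun hσ v
          simp [pow_succ] at this
          rwa [hmod] at this
      obtain ⟨m, rfl⟩ := hv
      exact hv1' (dd_fpf h2 hσ ((dd_eq_one h2).2 hfixσ))
    rw [hi0, pow_zero, MulAut.one_apply] at hzv
    have hvA : v ∈ fixA A := by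
      rw [hgen z hz hz1']
      intro a ha
      obtain ⟨j, rfl⟩ := Subgroup.mem_zpowers_iff.mp ha
      exact zpow_mem (show z ∈ MulAction.stabilizer (MulAut M) v from hzv) j
    have hne1 : dd σ v ≠ 1 := fun e => by
      obtain ⟨m, rfl⟩ := hv
      exact hv1' (dd_fpf h2 hσ e)
    exact hne1 (hfix v hvA)
  have hAc' := hgen c hcA hc1
  set U := (dd c).range with hU
  have hcfix : ∀ m, dd c m = 1 → m ∈ fixA A := by
    intro m hm
    rw [hAc']
    intro a ha
    obtain ⟨j, rfl⟩ := Subgroup.mem_zpowers_iff.mp ha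
    exact zpow_mem (show c ∈ MulAction.stabilizer (MulAut M) m from (dd_eq_one h2).1 hm) j
  have hcfix' : ∀ m, dd c m ∈ fixA A → dd c m = 1 := by
    intro m hm
    exact (dd_eq_one h2).2 (fix_of_mul h2 hodd (hAp c hcA) (hm c hcA))
  have hsur : ∀ x ∈ U, ∃ y ∈ U, dd c y = x := by
    let f : ↥U → ↥U := fun x => ⟨dd c x, x, rfl⟩
    have hf : Function.Injective f := by
      rintro ⟨_, a, rfl⟩ ⟨_, b, rfl⟩ h
      have h' : dd c (dd c a) = dd c (dd c b) := congrArg Subtype.val h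
      have h1 : dd c (dd c (a * b)) = 1 := by rw [map_mul, map_mul, h']; exact h2 _
      have h3 := hcfix' _ (hcfix _ h1)
      rw [map_mul] at h3
      exact Subtype.ext (eq_of_mul h2 h3)
    intro x hx
    obtain ⟨y, hy⟩ := (Finite.injective_iff_surjective.mp hf) ⟨x, hx⟩
    exact ⟨y, y.2, congrArg Subtype.val hy⟩
  have hUσ : ∀ x ∈ U, σ x ∈ U := by
    rintro _ ⟨m, rfl⟩
    have hcz : σ * c * σ⁻¹ ∈ Subgroup.zpowers c := hAc' ▸ hσA c hcA
    have hfo : IsOfFinOrder c := isOfFinOrder_iff_pow_eq_one.mpr ⟨p, hp.out.pos, hAp c hcA⟩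
    obtain ⟨k, hk⟩ := hfo.mem_powers_iff_mem_zpowers.mpr hcz
    simp only at hk
    have hkU : ∀ j : ℕ, ∀ x : M, (c ^ j) x * x ∈ U := by
      intro j
      induction j with
      | zero => intro x; rw [pow_zero, MulAut.one_apply, h2]; exact one_mem _
      | succ j ih =>
        intro x
        rw [pow_succ', MulAut.mul_apply]
        have e : c ((c ^ j) x) * x = (c ((c ^ j) x) * (c ^ j) x) * ((c ^ j) x * x) := by
          calc c ((c ^ j) x) * x = c ((c ^ j) x) * x * ((c ^ j) x * (c ^ j) x) := by rw [h2, mul_one]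
            _ = _ := by ac_rfl
        rw [e]
        exact mul_mem ⟨_, rfl⟩ (ih x)
    have := hkU k (σ m)
    rw [hk] at this
    simpa [dd_apply, map_mul, MulAut.mul_apply] using this
  have hUP : ∀ (g : P), ∀ x ∈ U, ρ g x ∈ U := by
    rintro g _ ⟨m, rfl⟩
    refine ⟨ρ g m, ?_⟩
    rw [dd_apply, dd_apply, map_mul, ← MulAut.mul_apply, hcA.2.2 (ρ g) ⟨g, rfl⟩, MulAut.mul_apply]
  have hVU : (dd σ).range ≤ U := by
    rintro _ ⟨m, rfl⟩
    obtain ⟨y, hy, hye⟩ := hsur (dd c m) ⟨m, rfl⟩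
    have hk : m * y ∈ fixA A := hcfix _ (by rw [map_mul, hye]; exact h2 _)
    have e : dd σ m = dd σ y := by
      have := hfix _ hk
      rw [map_mul] at this
      exact eq_of_mul h2 this
    rw [e]
    exact mul_mem (hUσ y hy) hy
  by_cases hUtop : U = ⊤
  swap
  · exact step U hUtop hUσ hUP hVU
  -- the small case
  have hcard : Nat.card M ≤ 16 := by
    have hs : Function.Surjective (fun vw : ↥(dd σ).range × ↥(dd σ).range => (vw.1 : M) * z vw.2) := by
      intro x
      obtain ⟨m, rfl⟩ := (hUtop ▸ Subgroup.mem_top x : x ∈ U)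
      obtain ⟨v, hv, w, hw, e⟩ := moved_subset h2 (σ := σ) (z := z) (m := m)
      exact ⟨(⟨v, hv⟩, ⟨w, hw⟩), e.symm⟩
    have := Nat.card_le_card_of_surjective _ hs
    rw [Nat.card_prod, hV] at this
    exact this
  have hfix1 : ∀ m ∈ fixA A, m = 1 := by
    intro m hm
    obtain ⟨m', rfl⟩ := (hUtop ▸ Subgroup.mem_top m : m ∈ U)
    exact hcfix' _ hm
  obtain ⟨m0, hm0⟩ : ∃ m : M, m ≠ 1 := by
    obtain ⟨⟨v, hv⟩, hv1⟩ := Subgroup.ne_bot_iff_exists_ne_one.mp
      (show (dd σ).range ≠ ⊥ from fun e => by rw [e, Subgroup.card_bot] at hV; omega)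
    exact ⟨v, fun e => hv1 (Subtype.ext e)⟩
  let K : Subgroup ↥ρ.range := MulAction.stabilizer ↥ρ.range m0
  have hKlt : K.index < 16 := by
    rw [MulAction.index_stabilizer]
    have hss : MulAction.orbit ↥ρ.range m0 ⊆ {x : M | x ≠ 1} := by
      rintro _ ⟨g, rfl⟩
      exact fun e => hm0 ((map_eq_one_iff (g : MulAut M) (g : MulAut M).injective).mp e)
    have h5 := Set.ncard_le_ncard hss (Set.toFinite _)
    have h6 : ({x : M | x ≠ 1}).ncard = Nat.card M - 1 := by
      rw [show {x : M | x ≠ 1} = ({1} : Set M)ᶜ from rfl, Set.ncard_compl, Set.ncard_singleton]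
    have := Nat.card_pos (α := M)
    omega
  have hKA : ∀ a : ↥ρ.range, (a : MulAut M) ∈ A → a ∈ K → a = 1 := by
    intro a ha hK
    by_contra h1
    have h1' : (a : MulAut M) ≠ 1 := fun e => h1 (Subtype.ext e)
    refine hm0 (hfix1 m0 ?_)
    rw [hgen _ ha h1']
    intro b hb
    obtain ⟨j, rfl⟩ := Subgroup.mem_zpowers_iff.mp hb
    exact zpow_mem (show (a : MulAut M) ∈ MulAction.stabilizer (MulAut M) m0 from hK) j
  obtain ⟨i, hi⟩ := hQ.index K
  have hi1 : i ≤ 1 := by
    by_contra hcon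
    have h5 : 5 ≤ p := by
      rcases Nat.lt_or_ge p 5 with h | h
      · interval_cases p <;> first | omega | exact absurd hp.out (by decide)
      · exact h
    have := Nat.pow_le_pow_right hp.out.pos (show 2 ≤ i by omega)
    rw [hi] at hKlt
    nlinarith
  have hzR : (⟨z, hz.1⟩ : ↥ρ.range) ≠ 1 := fun e => hz1' (congrArg Subtype.val e)
  have hKp : K.index = p := by
    rcases Nat.le_one_iff_eq_zero_or_eq_one.mp hi1 with e | e <;> rw [e] at hi
    · rw [pow_zero, Subgroup.index_eq_one] at hi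
      exact absurd (hKA ⟨z, hz.1⟩ hz (hi ▸ Subgroup.mem_top _)) hzR
    · rw [hi, pow_one]
  haveI : K.Normal := by
    refine Subgroup.normal_of_index_eq_minFac_card ?_
    rw [hKp]
    obtain ⟨j, hj⟩ := hQ.exists_card_eq
    rcases j with _ | j
    · rw [pow_zero, Subgroup.card_eq_one] at hj
      exact absurd hj hQ1
    · rw [hj, Nat.pow_minFac (by omega), hp.out.minFac_eq]
  have hKbot : K = ⊥ := by
    by_contra hK
    obtain ⟨⟨k, hk⟩, hk1⟩ := Subgroup.ne_bot_iff_exists_ne_one.mp (Solvable.inf_center_ne_bot hK)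
    have hk1' : k ≠ 1 := fun e => hk1 (Subtype.ext e)
    obtain ⟨j, hj⟩ := IsPGroup.iff_orderOf.mp hQ k
    rcases j with _ | j
    · rw [pow_zero, orderOf_eq_one_iff] at hj
      exact hk1' hj
    have ho : orderOf (k ^ p ^ j) = p := by
      rw [orderOf_pow' k (pow_ne_zero _ hp.out.ne_zero), hj,
        Nat.gcd_eq_right (pow_dvd_pow p (by omega)), pow_succ', Nat.mul_div_cancel _ (pow_pos hp.out.pos _)]
    have hmem : ((k ^ p ^ j : ↥ρ.range) : MulAut M) ∈ A := by
      refine ⟨Subtype.prop _, ?_, fun g hg => ?_⟩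
      · have e := pow_orderOf_eq_one (k ^ p ^ j)
        rw [ho] at e
        exact congrArg Subtype.val e
      · exact congrArg Subtype.val
          (Subgroup.mem_center_iff.mp ((Subgroup.center _).pow_mem hk.2 (p ^ j)) ⟨g, hg⟩).symm
    have := hKA _ hmem (K.pow_mem hk.1 _)
    rw [this, orderOf_one] at ho
    exact hp.out.one_lt.ne ho
  refine ⟨ρ.ker, ?_, fun g hg m => by rw [show ρ g = 1 from hg]; rfl⟩
  rw [Subgroup.index_ker, ← Subgroup.index_bot, ← hKbot, hKp]

end Cfsg.Agent.Lib.SmallMover
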